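import Groth.Agent.TransGen27.Closed
import Groth.Agent.FlatMisc.GenericFree
import Groth.Prelude.Def_Red
import Groth.Agent.S0346
import Groth.Agent.GrpScheme.IdComponent
import Mathlib.AlgebraicGeometry.FunctionField

/-!
# Separatedness and free covers over a nonempty open of an integral base
-/

set_option autoImplicit false
set_option linter.style.haveILetI false

universe u

open CategoryTheory CategoryTheory.Limits MonoidalCategory CartesianMonoidalCategory MonObj GrpObj AlgebraicGeometry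
open TopologicalSpace

namespace Groth.Agent.TransGen27

/-- A closed set missing the generic fibre of a quasi-compact morphism misses the fibres over a
nonempty basic open. -/
theorem exists_avoid {R : CommRingCat.{u}} [IsDomain R] {X : Scheme.{u}} (f : X ⟶ Spec R) [QuasiCompact f]
    {C : Set X} (hC : IsClosed C) (h : ∀ x ∈ C, f x ≠ (⊥ : PrimeSpectrum R)) :
    ∃ a : R, a ≠ 0 ∧ ∀ x ∈ C, a ∈ (f x).asIdeal := by
  classical
  haveI : CompactSpace X := QuasiCompact.compactSpace_of_compactSpace f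
  let 𝒰 := X.affineCover.finiteSubcover
  haveI : ∀ i, IsAffine (𝒰.X i) := fun i => inferInstanceAs (IsAffine (X.affineCover.X _))
  have key : ∀ i, ∃ a : R, a ≠ 0 ∧ ∀ z, 𝒰.f i z ∈ C → a ∈ (f (𝒰.f i z)).asIdeal := by
    intro i
    let j := (𝒰.X i).isoSpec.inv ≫ 𝒰.f i
    obtain ⟨φ, hφ⟩ := Spec.map_surjective (j ≫ f)
    obtain ⟨I, hI⟩ := (PrimeSpectrum.isClosed_iff_zeroLocus_ideal _).1 (hC.preimage j.continuous)
    let ψ := (Ideal.Quotient.mk I).comp φ.hom
    have hψ : ¬ Function.Injective ψ := fun hinj => by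
      obtain ⟨p, hp, hpc⟩ := Ideal.exists_comap_eq_of_mem_minimalPrimes_of_injective hinj (⊥ : Ideal R)
        (by rw [IsDomain.minimalPrimes_eq_singleton_bot]; rfl)
      let q : PrimeSpectrum Γ(𝒰.X i, ⊤) := ⟨p.comap (Ideal.Quotient.mk I), inferInstance⟩
      have hq : q ∈ j ⁻¹' C := by
        rw [hI]
        exact fun a ha => show Ideal.Quotient.mk I a ∈ p by
          rw [Ideal.Quotient.eq_zero_iff_mem.2 ha]; exact zero_mem p
      refine h _ hq ?_
      rw [← Scheme.Hom.comp_apply, ← hφ]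
      exact PrimeSpectrum.ext hpc
    obtain ⟨a, ha, ha0⟩ : ∃ a, ψ a = 0 ∧ a ≠ 0 := by
      by_contra hc
      push_neg at hc
      exact hψ ((injective_iff_map_eq_zero ψ).2 hc)
    refine ⟨a, ha0, fun z hz => ?_⟩
    let q := (𝒰.X i).isoSpec.hom z
    have hjq : j q = 𝒰.f i z := by
      rw [← Scheme.Hom.comp_apply]
      simp [j]
    have hq : q ∈ j ⁻¹' C := by rw [Set.mem_preimage, hjq]; exact hz
    rw [hI] at hq
    rw [← hjq, ← Scheme.Hom.comp_apply, ← hφ]
    exact hq (Ideal.Quotient.eq_zero_iff_mem.1 ha)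
  choose a ha0 ha using key
  haveI : Fintype 𝒰.I₀ := Fintype.ofFinite _
  refine ⟨∏ i, a i, Finset.prod_ne_zero_iff.2 fun i _ => ha0 i, fun x hx => ?_⟩
  obtain ⟨z, hz⟩ := 𝒰.covers x
  have := ha (𝒰.idx x) z (by rw [hz]; exact hx)
  rw [hz] at this
  exact Ideal.mem_of_dvd _ (Finset.dvd_prod_of_mem _ (Finset.mem_univ _)) this

/-- The unit section of a base change. -/
theorem unit_bc_fst {S S' : Scheme.{u}} (σ : S' ⟶ S) (G : Over S) [GrpObj G] :
    η[Red.bc σ G].left ≫ pullback.fst G.hom σ = σ ≫ η[G].left := by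
  rw [Functor.obj.η_def, Over.comp_left, Category.assoc]
  erw [pullback.lift_fst]
  rw [← Category.assoc]
  congr 1
  have h1 := Over.w (Functor.LaxMonoidal.ε (Over.pullback σ))
  have h2 : pullback.fst (𝟙 S) σ ≫ 𝟙 S = pullback.snd (𝟙 S) σ ≫ σ := pullback.condition
  erw [Category.comp_id] at h2
  erw [h2, ← Category.assoc, h1, Category.id_comp]

/-- A group scheme of finite presentation is separated over a nonempty basic open. -/
theorem exists_sep {S : Scheme.{u}} [IsIntegral S] (G : Over S) [GrpObj G] [QuasiCompact G.hom]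
    (W : S.Opens) (hW : IsAffineOpen W) (hne : (W : Set S).Nonempty) :
    ∃ a : Γ(S, W), a ≠ 0 ∧ ∀ U : S.Opens, U ≤ S.basicOpen a → IsSeparated (Red.bc U.ι G).hom := by
  haveI : Nonempty (W : Scheme.{u}) := hne.to_subtype
  haveI : IsOpenImmersion hW.fromSpec := IsAffineOpen.isOpenImmersion_fromSpec _
  set ξ := genericPoint S
  set E := Set.range η[G].left
  have hsec : ∀ s, G.hom (η[G].left s) = s := fun s => congr($(Over.w η[G]) s)
  haveI : IsImmersion η[G].left := by
    haveI : IsImmersion (η[G].left ≫ G.hom) := by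
      rw [Over.w]; exact inferInstanceAs (IsImmersion (𝟙 S))
    exact IsImmersion.of_comp η[G].left G.hom
  have hC : IsClosed (closure E \ E) := by
    have := η[G].left.isLocallyClosed_range.isOpen_coborder.isClosed_compl
    rwa [coborder, compl_compl] at this
  have hfib : ∀ x ∈ closure E \ E, G.hom x ≠ ξ := by
    rintro x ⟨hx, hxE⟩ hxξ
    have hs : η[G].left ξ ⤳ x := by
      refine specializes_iff_mem_closure.2 (closure_minimal ?_ isClosed_closure hx)
      rintro _ ⟨s, rfl⟩
      exact ((genericPoint_spec S).specializes trivial).map η[G].left.continuous |>.mem_closure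
    let σ := S.fromSpecResidueField ξ
    haveI : IsPreimmersion (pullback.fst G.hom σ) :=
      MorphismProperty.pullback_fst (P := @IsPreimmersion) G.hom σ inferInstance
    have hcl : IsClosedImmersion η[Red.bc σ G].left :=
      (S0346.result _ (Red.bc σ G)).1.1 (GrpScheme.IdComponent.isSeparated (Red.bc σ G))
    obtain ⟨z, hz, -⟩ := Scheme.Pullback.exists_preimage_pullback (f := G.hom) (g := σ) x
      (IsLocalRing.closedPoint _) (by rw [hxξ, Scheme.fromSpecResidueField_apply])
    let z₀ := η[Red.bc σ G].left (IsLocalRing.closedPoint _)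
    have hz₀ : pullback.fst G.hom σ z₀ = η[G].left ξ :=
      congr($(unit_bc_fst σ G) (IsLocalRing.closedPoint _)).trans
        (congrArg η[G].left (Scheme.fromSpecResidueField_apply ξ _))
    have hzz : z₀ ⤳ z := (pullback.fst G.hom σ).isEmbedding.isInducing.specializes_iff.1
      (by rw [hz₀, hz]; exact hs)
    obtain ⟨t, ht⟩ := hzz.mem_closed hcl.isClosedEmbedding.isClosed_range ⟨_, rfl⟩
    refine hxE ⟨ξ, ?_⟩
    rw [← hz₀, ← hz, ← ht, Subsingleton.elim (α := PrimeSpectrum _) t (IsLocalRing.closedPoint _)]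
  have hbot : hW.fromSpec (⊥ : PrimeSpectrum Γ(S, W)) = ξ := by
    rw [← genericPoint_eq_bot_of_affine]
    exact genericPoint_eq_of_isOpenImmersion hW.fromSpec
  obtain ⟨a, ha0, ha⟩ := exists_avoid (pullback.snd G.hom hW.fromSpec)
    (hC.preimage (pullback.fst G.hom hW.fromSpec).continuous) fun z hz hzb => hfib _ hz (by
      rw [← Scheme.Hom.comp_apply, pullback.condition, Scheme.Hom.comp_apply, hzb, hbot])
  refine ⟨a, ha0, fun U hU => (S0346.result _ (Red.bc U.ι G)).1.2 ?_⟩
  haveI : IsImmersion η[Red.bc U.ι G].left := by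
    haveI : IsImmersion (η[Red.bc U.ι G].left ≫ (Red.bc U.ι G).hom) := by
      rw [Over.w]; exact inferInstanceAs (IsImmersion (𝟙 (U : Scheme.{u})))
    exact IsImmersion.of_comp η[Red.bc U.ι G].left (Red.bc U.ι G).hom
  haveI : IsOpenImmersion (pullback.fst G.hom U.ι) :=
    MorphismProperty.pullback_fst (P := @IsOpenImmersion) G.hom U.ι inferInstance
  have hrange : Set.range η[Red.bc U.ι G].left = pullback.fst G.hom U.ι ⁻¹' closure E := by
    ext y
    constructor
    · rintro ⟨t, rfl⟩
      exact subset_closure ⟨U.ι t, (congr($(unit_bc_fst U.ι G) t)).symm⟩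
    · intro hy
      obtain ⟨s, hs⟩ : pullback.fst G.hom U.ι y ∈ E := by
        by_contra hne
        have hsW : G.hom (pullback.fst G.hom U.ι y) ∈ S.basicOpen a := by
          rw [← Scheme.Hom.comp_apply, pullback.condition, Scheme.Hom.comp_apply]
          exact hU (pullback.snd G.hom U.ι y).2
        obtain ⟨p, hp⟩ : G.hom (pullback.fst G.hom U.ι y) ∈ Set.range hW.fromSpec := by
          rw [hW.range_fromSpec]; exact S.basicOpen_le a hsW
        obtain ⟨z, hz1, hz2⟩ := Scheme.Pullback.exists_preimage_pullback (f := G.hom) (g := hW.fromSpec)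
          (pullback.fst G.hom U.ι y) p hp.symm
        have hmem := ha z (show pullback.fst G.hom hW.fromSpec z ∈ closure E \ E from hz1 ▸ ⟨hy, hne⟩)
        rw [hz2] at hmem
        have : p ∈ hW.fromSpec ⁻¹ᵁ S.basicOpen a := show hW.fromSpec p ∈ S.basicOpen a from hp ▸ hsW
        rw [hW.fromSpec_preimage_basicOpen] at this
        exact this hmem
      refine ⟨pullback.snd G.hom U.ι y, (pullback.fst G.hom U.ι).isOpenEmbedding.injective ?_⟩
      refine (congr($(unit_bc_fst U.ι G) _)).trans ?_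
      rw [← hs]
      refine congrArg η[G].left ?_
      rw [← hsec s, hs, ← Scheme.Hom.comp_apply, pullback.condition, Scheme.Hom.comp_apply]
      rfl
  exact .of_isPreimmersion _ (hrange ▸ isClosed_closure.preimage (pullback.fst G.hom U.ι).continuous)

/-- Bases after inverting one element give free localizations. -/
theorem free_away {R B R' B' : Type u} [CommRing R] [CommRing B] [CommRing R'] [CommRing B']
    [Algebra R B] [Algebra R R'] [Algebra B B'] [Algebra R' B'] [Algebra R B'] [IsScalarTower R R' B']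
    [IsScalarTower R B B'] (f : R) [IsLocalization.Away f R'] [IsLocalization.Away (algebraMap R B f) B']
    (h : FlatMisc.GenericFree.FreeAt f B) : Module.Free R' B' := by
  classical
  obtain ⟨I₀, v, hv, hs⟩ := h
  have hu : IsUnit (algebraMap R R' f) := IsLocalization.Away.algebraMap_isUnit f
  let v' : I₀ → B' := fun i => algebraMap B B' (v i)
  have hli : LinearIndependent R' v' := by
    rw [linearIndependent_iff]
    intro c hc
    obtain ⟨⟨d, hd⟩, hint⟩ := IsLocalization.exist_integer_multiples (Submonoid.powers f) c.support c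
    choose w hw using hint
    let c₀ : I₀ →₀ R := Finsupp.onFinset c.support (fun i => if h : i ∈ c.support then w i h else 0)
      (fun i hi => by by_contra hn; simp [hn] at hi)
    have hc₀ : ∀ i, algebraMap R R' (c₀ i) = d • c i := fun i => by
      by_cases h : i ∈ c.support
      · show algebraMap R R' (c₀ i) = _
        rw [Finsupp.onFinset_apply, dif_pos h]
        exact hw i h
      · rw [Finsupp.onFinset_apply, dif_neg h, map_zero, Finsupp.notMem_support_iff.1 h, smul_zero]
    have hz : algebraMap B B' (Finsupp.linearCombination R v c₀) = 0 := by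
      have e : algebraMap B B' (Finsupp.linearCombination R v c₀) =
          d • Finsupp.linearCombination R' v' c := by
        rw [Finsupp.linearCombination_apply, Finsupp.linearCombination_apply,
          Finsupp.sum_of_support_subset c₀ (s := c.support) Finsupp.support_onFinset_subset
            (fun i r => r • v i) (fun i _ => zero_smul R (v i)),
          Finsupp.sum, map_sum, Finset.smul_sum]
        refine Finset.sum_congr rfl fun i _ => ?_
        rw [← smul_assoc, ← hc₀, algebraMap_smul, ← IsScalarTower.coe_toAlgHom' R B B', map_smul]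
        rfl
      rw [e, hc, smul_zero]
    obtain ⟨⟨_, m, rfl⟩, hm⟩ :=
      (IsLocalization.map_eq_zero_iff (Submonoid.powers (algebraMap R B f)) B' _).1 hz
    have hm' : Finsupp.linearCombination R v (f ^ m • c₀) = 0 := by
      rw [map_smul, Algebra.smul_def, map_pow]; exact hm
    ext i
    have h0 := DFunLike.congr_fun (hv _ hm') i
    simp only [Finsupp.coe_smul, Pi.smul_apply, smul_eq_mul, Finsupp.coe_zero, Pi.zero_apply] at h0
    have h1 := congrArg (algebraMap R R') h0
    rw [map_mul, map_mul, map_pow, hc₀, map_zero, hu.mul_right_eq_zero, (hu.pow m).mul_right_eq_zero,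
      Algebra.smul_def] at h1
    exact ((IsLocalization.map_units R' (⟨d, hd⟩ : Submonoid.powers f)).mul_right_eq_zero).1 h1
  refine Module.Free.of_basis (Module.Basis.mk hli fun x _ => ?_)
  obtain ⟨⟨b, _, n, rfl⟩, hb⟩ := IsLocalization.surj (Submonoid.powers (algebraMap R B f)) x
  obtain ⟨k, hk⟩ := hs b
  have hmem : algebraMap R R' (f ^ (n + k)) • x ∈ Submodule.span R' (Set.range v') := by
    have e : algebraMap R R' (f ^ (n + k)) • x = algebraMap B B' (f ^ k • b) := by
      rw [algebraMap_smul, Algebra.smul_def, Algebra.smul_def, map_mul, ← IsScalarTower.algebraMap_apply,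
        ← hb, map_pow, pow_add, map_pow, map_pow, ← IsScalarTower.algebraMap_apply]
      ring
    rw [e]
    refine Submodule.span_le_restrictScalars R R' _ ?_
    have := Submodule.mem_map_of_mem (f := (IsScalarTower.toAlgHom R B B').toLinearMap) hk
    rwa [Submodule.map_span, ← Set.range_comp] at this
  exact (Submodule.smul_mem_iff_of_isUnit _ ((map_pow (algebraMap R R') f (n + k)).symm ▸ hu.pow _)).1 hmem

/-- Freeness along an isomorphic square. -/
theorem free_of_square {R R' B B' : CommRingCat.{u}} (φ : R ⟶ B) (φ' : R' ⟶ B') (e : R ⟶ R') (g : B ⟶ B')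
    [IsIso e] [IsIso g] (h : φ ≫ g = e ≫ φ') (hfree : @Module.Free R B _ _ φ.hom.toAlgebra.toModule) :
    @Module.Free R' B' _ _ φ'.hom.toAlgebra.toModule := by
  let := φ.hom.toAlgebra
  let := φ'.hom.toAlgebra
  let e' := (asIso e).commRingCatIsoToRingEquiv
  let g' := (asIso g).commRingCatIsoToRingEquiv
  have : RingHomInvPair (e' : R →+* R') (e'.symm : R' →+* R) := RingHomInvPair.of_ringEquiv e'
  have : RingHomInvPair (e'.symm : R' →+* R) (e' : R →+* R') := RingHomInvPair.of_ringEquiv e'.symm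
  let l : B ≃ₛₗ[(e' : R →+* R')] B' :=
    { g'.toAddEquiv with
      map_smul' := fun r b => by
        show g.hom (φ.hom r * b) = φ'.hom (e.hom r) * g.hom b
        rw [map_mul]
        exact congrArg (· * g.hom b) congr(($h).hom r) }
  exact Module.Free.of_equiv l

/-- A nonempty open with a finite free affine cover of the preimage. -/
theorem exists_free_cover {S : Scheme.{u}} [IsIntegral S] {Y : Scheme.{u}} (π : Y ⟶ S) [QuasiCompact π]
    [LocallyOfFiniteType π] (W : S.Opens) (hW : IsAffineOpen W) (hne : (W : Set S).Nonempty) :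
    ∃ (f : Γ(S, W)), f ≠ 0 ∧ ∀ a : Γ(S, W), f ∣ a →
      ∀ U : S.Opens, U = S.basicOpen a → ∃ Vs : Finset (pullback π U.ι).affineOpens,
        ∀ y : ↥(pullback π U.ι), ∃ (V : (pullback π U.ι).affineOpens)
          (h : V.1 ≤ pullback.snd π U.ι ⁻¹ᵁ ⊤), y ∈ V.1 ∧ V ∈ Vs ∧
          @Module.Free Γ(U, ⊤) Γ(pullback π U.ι, V) _ _ ((pullback.snd π U.ι).appLE ⊤ V.1 h).hom.toAlgebra.toModule := by
  classical
  haveI : Nonempty (W : Scheme.{u}) := hne.to_subtype
  have hc : IsCompact (π ⁻¹' (W : Set S)) := π.isCompact_preimage hW.isCompact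
  choose V hV hyV hVW using fun y : (π ⁻¹ᵁ W : Y.Opens) =>
    exists_isAffineOpen_mem_and_subset (x := y.1) (U := π ⁻¹ᵁ W) y.2
  obtain ⟨t, ht⟩ := hc.elim_finite_subcover (fun y : (π ⁻¹ᵁ W : Y.Opens) => (V y : Set Y))
    (fun y => (V y).2) fun y hy => Set.mem_iUnion.2 ⟨⟨y, hy⟩, hyV ⟨y, hy⟩⟩
  have hgen : ∀ y : (π ⁻¹ᵁ W : Y.Opens), ∃ f : Γ(S, W), f ≠ 0 ∧
      (letI := (π.appLE W (V y) (hVW y)).hom.toAlgebra; FlatMisc.GenericFree.FreeAt f Γ(Y, V y)) := fun y => by
    letI := (π.appLE W (V y) (hVW y)).hom.toAlgebra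
    haveI : Algebra.FiniteType Γ(S, W) Γ(Y, V y) :=
      LocallyOfFiniteType.finiteType_appLE (f := π) hW (hV y) (hVW y)
    obtain ⟨f, -, hf, h⟩ := FlatMisc.GenericFree.genFree (R := Γ(S, W)) Γ(Y, V y) Γ(Y, V y) 1 one_ne_zero
    exact ⟨f, hf, h⟩
  choose f hf0 hf using hgen
  refine ⟨∏ y ∈ t, f y, Finset.prod_ne_zero_iff.2 fun y _ => hf0 y, ?_⟩
  rintro a hfa U rfl
  let U := S.basicOpen a
  let p := pullback.fst π U.ι
  haveI : IsOpenImmersion p := MorphismProperty.pullback_fst (P := @IsOpenImmersion) π U.ι inferInstance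
  have hp : Set.range p = π ⁻¹' (U : Set S) := by
    rw [Scheme.Pullback.range_fst, Scheme.Opens.range_ι]
  let B := fun y => Y.basicOpen ((π.appLE W (V y) (hVW y)).hom a)
  have hB : ∀ y, B y = V y ⊓ π ⁻¹ᵁ U := fun y => by
    show Y.basicOpen ((π.app W ≫ Y.presheaf.map (homOfLE (hVW y)).op).hom a) = _
    rw [CommRingCat.hom_comp, RingHom.comp_apply, Scheme.basicOpen_res, ← Scheme.preimage_basicOpen]
  have hVaff : ∀ y, IsAffineOpen (p ⁻¹ᵁ B y) := fun y => by
    refine (p.isAffineOpen_iff_of_isOpenImmersion).1 ?_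
    rw [p.image_preimage_eq_opensRange_inf]
    have : p.opensRange ⊓ B y = B y := inf_eq_right.2 fun z hz => by
      show z ∈ Set.range p
      rw [hp]; exact ((hB y).le hz).2
    rw [this]
    exact (hV y).basicOpen _
  refine ⟨t.image fun y => ⟨p ⁻¹ᵁ B y, hVaff y⟩, fun z => ?_⟩
  have hzU : π (p z) ∈ U := hp.subset ⟨z, rfl⟩
  obtain ⟨y, hy, hzy⟩ := Set.mem_iUnion₂.1 (ht (show p z ∈ π ⁻¹' (W : Set S) from S.basicOpen_le a hzU))
  refine ⟨⟨p ⁻¹ᵁ B y, hVaff y⟩, fun _ _ => trivial, ?_, Finset.mem_image.2 ⟨y, hy, rfl⟩, ?_⟩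
  · show p z ∈ B y
    rw [hB]; exact ⟨hzy, hzU⟩
  have hBU : B y ≤ π ⁻¹ᵁ U := (hB y).le.trans inf_le_right
  have hfree : @Module.Free Γ(S, U) Γ(Y, B y) _ _ (π.appLE U (B y) hBU).hom.toAlgebra.toModule := by
    letI := (π.appLE W (V y) (hVW y)).hom.toAlgebra
    letI := (π.appLE U (B y) hBU).hom.toAlgebra
    letI := (π.appLE W (B y) (hBU.trans (π.preimage_mono (S.basicOpen_le a)))).hom.toAlgebra
    haveI : IsLocalization.Away a Γ(S, U) := hW.isLocalization_basicOpen a
    haveI : IsLocalization.Away (algebraMap Γ(S, W) Γ(Y, V y) a) Γ(Y, B y) :=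
      (hV y).isLocalization_basicOpen _
    haveI : IsScalarTower Γ(S, W) Γ(S, U) Γ(Y, B y) := IsScalarTower.of_algebraMap_eq' <| by
      show _ = (S.presheaf.map (homOfLE (S.basicOpen_le a)).op ≫ π.appLE U (B y) hBU).hom
      rw [π.map_appLE]
      rfl
    haveI : IsScalarTower Γ(S, W) Γ(Y, V y) Γ(Y, B y) := IsScalarTower.of_algebraMap_eq' <| by
      show _ = (π.appLE W (V y) (hVW y) ≫ Y.presheaf.map (homOfLE (Y.basicOpen_le _)).op).hom
      rw [π.appLE_map]
      rfl
    exact free_away a ((hf y).of_dvd ((Finset.dvd_prod_of_mem f hy).trans hfa))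
  have hU' : (⊤ : (U : Scheme.{u}).Opens) ≤ U.ι ⁻¹ᵁ U := U.ι_preimage_self.ge
  haveI : IsIso (p.appLE (B y) (p ⁻¹ᵁ B y) le_rfl) := by
    rw [Scheme.Hom.appLE_eq_app]
    exact p.isIso_app _ fun z hz => by
      show z ∈ Set.range p
      rw [hp]; exact hBU hz
  haveI : IsIso (U.ι.appLE U ⊤ hU') := by
    rw [Scheme.Hom.appLE]
    haveI : IsIso (U.ι.app U) := U.ι.isIso_app U (by simp)
    haveI : IsIso (homOfLE hU') := ⟨homOfLE le_top, rfl, rfl⟩
    infer_instance
  refine free_of_square (π.appLE U (B y) hBU) _ (U.ι.appLE U ⊤ hU') (p.appLE (B y) (p ⁻¹ᵁ B y) le_rfl) ?_ hfree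
  rw [Scheme.Hom.appLE_comp_appLE, Scheme.Hom.appLE_comp_appLE]
  simp only [p, pullback.condition]
  rfl

end Groth.Agent.TransGen27
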