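import Groth.Agent.GrpScheme.ClosedRepProd
import Mathlib.RingTheory.FinitePresentation

/-!
# The closed subscheme where a closed subscheme of a product is everything is finitely presented

Refinement of `GrpScheme.ClosedRepProd`: with a finite free affine cover and finitely presented `e`
the representing closed subscheme is cut out by finitely generated ideals.
-/

set_option autoImplicit false

universe u

open CategoryTheory AlgebraicGeometry Limits MonoidalCategory CartesianMonoidalCategory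
open scoped TensorProduct

namespace Groth.Agent.TransGen27

open GrpScheme GrpScheme.ClosedRepProd

/-- The coefficient ideal of a finitely generated ideal is finitely generated. -/
lemma exists_coeff_ideal_fg (R A B : Type u) [CommRing R] [CommRing A] [CommRing B] [Algebra R A]
    [Algebra R B] [Module.Free R B] (J : Ideal (A ⊗[R] B)) (hJ : J.FG) :
    ∃ I : Ideal A, I.FG ∧ ∀ (C : Type u) [CommRing C] [Algebra R C] (f : A →ₐ[R] C),
      (∀ z ∈ (J : Set (A ⊗[R] B)), Algebra.TensorProduct.map f (AlgHom.id R B) z = 0) ↔ I ≤ RingHom.ker f := by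
  classical
  obtain ⟨s, rfl⟩ := hJ
  let b := Module.Free.chooseBasis R B
  let bA := Algebra.TensorProduct.basis A b
  refine ⟨Ideal.span (s.biUnion fun z => (bA.repr z).support.image (bA.repr z) : Finset A), ⟨_, rfl⟩,
    fun C _ _ f => ?_⟩
  let bC := Algebra.TensorProduct.basis C b
  have key : ∀ z i, bC.repr (Algebra.TensorProduct.map f (AlgHom.id R B) z) i = f (bA.repr z i) := by
    intro z i
    induction z using TensorProduct.induction_on with
    | zero => simp
    | tmul x y => simp [bC, bA, Algebra.TensorProduct.basis_repr_tmul]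
    | add x y hx hy => simp [map_add, hx, hy]
  rw [Ideal.span_le]
  refine ⟨fun h => ?_, fun h z hz => ?_⟩
  · intro a ha
    simp only [Finset.coe_biUnion, Set.mem_iUnion, Finset.coe_image, Set.mem_image] at ha
    obtain ⟨z, hz, i, -, rfl⟩ := ha
    show f _ = 0
    rw [← key, h z (Ideal.subset_span hz), map_zero, Finsupp.zero_apply]
  · have hle : Ideal.span (s : Set (A ⊗[R] B)) ≤
        RingHom.ker (Algebra.TensorProduct.map f (AlgHom.id R B)) := by
      refine Ideal.span_le.mpr fun z hz => (LinearEquiv.map_eq_zero_iff bC.repr).mp (Finsupp.ext fun i => ?_)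
      rw [key]
      by_cases hi : bA.repr z i = 0
      · rw [hi, map_zero, Finsupp.zero_apply]
      · exact h (Finset.mem_coe.mpr (Finset.mem_biUnion.mpr ⟨z, hz,
          Finset.mem_image.mpr ⟨i, Finsupp.mem_support_iff.mpr hi, rfl⟩⟩))
    exact hle hz

/-- A finitely presented closed immersion pulled back to an affine scheme is cut out by a finitely
generated ideal. -/
lemma exists_ideal_factor_fg {E P : Scheme.{u}} (e : E ⟶ P) [IsClosedImmersion e] [LocallyOfFinitePresentation e]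
    (R : CommRingCat.{u}) (j : Spec R ⟶ P) :
    ∃ J : Ideal R, J.FG ∧ ∀ (D : CommRingCat.{u}) (ψ : R ⟶ D),
      (∃ l, l ≫ e = Spec.map ψ ≫ j) ↔ J ≤ RingHom.ker ψ.hom := by
  obtain ⟨J, iso, hiso⟩ := IsClosedImmersion.Spec_iff.mp
    (inferInstance : IsClosedImmersion (pullback.fst j e))
  have hfp : LocallyOfFinitePresentation (Spec.map (CommRingCat.ofHom (Ideal.Quotient.mk J))) := by
    have h : Spec.map (CommRingCat.ofHom (Ideal.Quotient.mk J)) = iso.inv ≫ pullback.fst j e := by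
      rw [hiso, Iso.inv_hom_id_assoc]
    rw [h]
    have : LocallyOfFinitePresentation (pullback.fst j e) :=
      MorphismProperty.pullback_fst (P := @LocallyOfFinitePresentation) j e inferInstance
    infer_instance
  have hJ : J.FG := by
    have h2 : (Ideal.Quotient.mk J).FinitePresentation :=
      (HasRingHomProperty.Spec_iff (P := @LocallyOfFinitePresentation)).mp hfp
    have : Algebra.FinitePresentation R (R ⧸ J) := RingHom.finitePresentation_algebraMap.mp h2
    have h3 := Algebra.FinitePresentation.ker_fG_of_surjective (Algebra.ofId R (R ⧸ J))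
      Ideal.Quotient.mk_surjective
    have e : RingHom.ker (Algebra.ofId R (R ⧸ J)).toRingHom = J := Ideal.mk_ker
    rwa [e] at h3
  refine ⟨J, hJ, fun D ψ => ⟨fun ⟨l, hl⟩ => ?_, fun h => ?_⟩⟩
  · let m := pullback.lift (Spec.map ψ) l hl.symm ≫ iso.hom
    have hm : m ≫ Spec.map (CommRingCat.ofHom (Ideal.Quotient.mk J)) = Spec.map ψ := by
      rw [Category.assoc, ← hiso, pullback.lift_fst]
    rw [← Spec.map_preimage m, ← Spec.map_comp] at hm
    intro a ha
    have := congr(($(Spec.map_injective hm)).hom a)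
    rw [RingHom.mem_ker, ← this, CommRingCat.hom_comp, RingHom.comp_apply]
    show (Spec.preimage m).hom (Ideal.Quotient.mk J a) = 0
    rw [Ideal.Quotient.eq_zero_iff_mem.mpr ha, map_zero]
  · let g : CommRingCat.of (R ⧸ J) ⟶ D :=
      CommRingCat.ofHom (Ideal.Quotient.lift J ψ.hom fun a ha => h ha)
    have hg : CommRingCat.ofHom (Ideal.Quotient.mk J) ≫ g = ψ := rfl
    refine ⟨Spec.map g ≫ iso.inv ≫ pullback.snd j e, ?_⟩
    rw [Category.assoc, Category.assoc, ← pullback.condition, hiso, Category.assoc,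
      Iso.inv_hom_id_assoc, ← Category.assoc, ← Spec.map_comp, hg]


variable {S X Y : Scheme.{u}} (pX : X ⟶ S) (pY : Y ⟶ S) {E : Scheme.{u}} (e : E ⟶ pullback pX pY)

lemma isRep_fg [IsClosedImmersion e] [LocallyOfFinitePresentation e] (U : X.affineOpens) (W : S.affineOpens)
    (hUW : U.1 ≤ pX ⁻¹ᵁ W.1)
    (Vs : Finset Y.affineOpens)
    (hW : ∀ y : Y, pY y ∈ W.1 → ∃ (V : Y.affineOpens) (h : V.1 ≤ pY ⁻¹ᵁ W.1), y ∈ V.1 ∧ V ∈ Vs ∧
      @Module.Free Γ(S, W) Γ(Y, V) _ _ (pY.appLE W.1 V.1 h).hom.toAlgebra.toModule) :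
    ∃ I : Ideal Γ(X, U), I.FG ∧ ∀ (C : CommRingCat.{u}) (φ : Γ(X, U) ⟶ C),
      Cond pX pY e (Spec.map φ ≫ U.2.fromSpec) ↔ I ≤ RingHom.ker φ.hom := by
  classical
  letI : Algebra Γ(S, W) Γ(X, U) := (pX.appLE W.1 U.1 hUW).hom.toAlgebra
  let ι := {V : Y.affineOpens // ∃ h : V.1 ≤ pY ⁻¹ᵁ W.1, V ∈ Vs ∧
      @Module.Free Γ(S, W) Γ(Y, V) _ _ (pY.appLE W.1 V.1 h).hom.toAlgebra.toModule}
  haveI : Finite ι := Finite.of_injective (β := Vs) (fun V => ⟨V.1, V.2.snd.1⟩)
    fun a b h => Subtype.ext (congrArg (fun v : Vs => v.1) h)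
  letI alg (V : ι) : Algebra Γ(S, W) Γ(Y, V.1) := (pY.appLE W.1 V.1.1 V.2.fst).hom.toAlgebra
  have free (V : ι) : Module.Free Γ(S, W) Γ(Y, V.1) := V.2.snd.2
  have e₁ : Spec.map (CommRingCat.ofHom (algebraMap Γ(S, W) Γ(X, U))) ≫ W.2.fromSpec =
      U.2.fromSpec ≫ pX :=
    W.2.SpecMap_appLE_fromSpec pX U.2 hUW
  have e₂ (V : ι) : Spec.map (CommRingCat.ofHom (algebraMap Γ(S, W) Γ(Y, V.1))) ≫ W.2.fromSpec =
      V.1.2.fromSpec ≫ pY :=
    W.2.SpecMap_appLE_fromSpec pY V.1.2 V.2.fst
  have : IsOpenImmersion W.2.fromSpec := IsAffineOpen.isOpenImmersion_fromSpec _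
  have : IsOpenImmersion U.2.fromSpec := IsAffineOpen.isOpenImmersion_fromSpec _
  let j (V : ι) : Spec (CommRingCat.of (Γ(X, U) ⊗[Γ(S, W)] Γ(Y, V.1))) ⟶ pullback pX pY :=
    (pullbackSpecIso Γ(S, W) Γ(X, U) Γ(Y, V.1)).inv ≫
      pullback.map _ _ pX pY U.2.fromSpec V.1.2.fromSpec W.2.fromSpec e₁ (e₂ V)
  have hjfst (V : ι) : j V ≫ pullback.fst pX pY =
      Spec.map (CommRingCat.ofHom Algebra.TensorProduct.includeLeftRingHom) ≫ U.2.fromSpec := by
    rw [Category.assoc, pullback.lift_fst, pullbackSpecIso_inv_fst_assoc]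
  have hjrange (V : ι) : Set.range (j V) = pullback.fst pX pY ⁻¹' (U.1 : Set X) ∩
      pullback.snd pX pY ⁻¹' (V.1.1 : Set Y) := by
    rw [Scheme.Hom.comp_base, TopCat.coe_comp, Set.range_comp,
      (Set.range_eq_univ.mpr (Scheme.Hom.surjective _)), Set.image_univ, Scheme.Pullback.range_map,
      U.2.range_fromSpec, V.1.2.range_fromSpec]
  choose J hJfg hJ using fun V : ι => exists_ideal_factor_fg e _ (j V)
  choose I hIfg hI using fun V : ι =>
    exists_coeff_ideal_fg Γ(S, W) Γ(X, U) Γ(Y, V.1) (J V) (hJfg V)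
  refine ⟨⨆ V, I V, Submodule.fg_iSup _ hIfg, fun C φ => ?_⟩
  letI : Algebra Γ(S, W) C := (φ.hom.comp (algebraMap Γ(S, W) Γ(X, U))).toAlgebra
  let f : Γ(X, U) →ₐ[Γ(S, W)] C := { φ.hom with commutes' := fun _ => rfl }
  rw [iSup_le_iff]
  refine ⟨fun hc V => (hI V C f).mp fun z hz => ?_, fun hle => ?_⟩
  · obtain ⟨l, hl⟩ := hc
      (Spec.map (CommRingCat.ofHom (Algebra.TensorProduct.map f
        (AlgHom.id Γ(S, W) Γ(Y, V.1))).toRingHom) ≫ j V)
      (Spec.map (CommRingCat.ofHom Algebra.TensorProduct.includeLeftRingHom)) (by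
        rw [Category.assoc, hjfst, ← Spec.map_comp_assoc, ← Spec.map_comp_assoc]
        congr 2)
    exact (hJ V _ _).mp ⟨l, hl⟩ hz
  intro Q q q' hq
  have hcov : ∀ z : Q, ∃ (V : ι) (D : CommRingCat.{u}) (o : Spec D ⟶ Q),
      IsOpenImmersion o ∧ z ∈ Set.range o ∧ Set.range (o ≫ q) ⊆ Set.range (j V) := by
    intro z
    have hU : pullback.fst pX pY (q z) ∈ U.1 := by
      rw [← Scheme.Hom.comp_apply, hq, ← Category.assoc, Scheme.Hom.comp_apply,
        ← SetLike.mem_coe, ← U.2.range_fromSpec]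
      exact ⟨_, rfl⟩
    obtain ⟨V, hV, hzV, hVs, hfree⟩ := hW (pullback.snd pX pY (q z)) (by
      have : pX (pullback.fst pX pY (q z)) ∈ W.1 := hUW hU
      rwa [← Scheme.Hom.comp_apply, pullback.condition, Scheme.Hom.comp_apply] at this)
    let O : (pullback pX pY).Opens :=
      pullback.fst pX pY ⁻¹ᵁ U.1 ⊓ pullback.snd pX pY ⁻¹ᵁ V.1
    obtain ⟨_, ⟨O', hO', rfl⟩, hz, hsub⟩ := Q.isBasis_affineOpens.exists_subset_of_mem_open
      (show z ∈ q ⁻¹ᵁ O from ⟨hU, hzV⟩) (q ⁻¹ᵁ O).2
    refine ⟨⟨V, hV, hVs, hfree⟩, _, IsAffineOpen.fromSpec hO', IsAffineOpen.isOpenImmersion_fromSpec _,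
      by rw [hO'.range_fromSpec]; exact hz, ?_⟩
    rintro _ ⟨w, rfl⟩
    rw [hjrange, Scheme.Hom.comp_apply]
    exact hsub (hO'.range_fromSpec.subset ⟨w, rfl⟩)
  choose V D o ho hzo hrange using hcov
  refine exists_factor_of_cover pX pY e
    { I₀ := Q, X := fun z => Spec (D z), f := o,
      mem₀ := (Scheme.presieve₀_mem_precoverage_iff _).mpr
        ⟨fun z => ⟨z, hzo z⟩, fun z => ho z⟩ } q fun (z : Q) => ?_
  show ∃ l, l ≫ e = o z ≫ q
  have : IsOpenImmersion (V z).1.2.fromSpec := IsAffineOpen.isOpenImmersion_fromSpec _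
  have hjimm : IsOpenImmersion (j (V z)) :=
    MorphismProperty.comp_mem @IsOpenImmersion _ _ inferInstance inferInstance
  let ψ := Spec.preimage (IsOpenImmersion.lift (j (V z)) (o z ≫ q) (hrange z))
  have hψ : Spec.map ψ ≫ j (V z) = o z ≫ q := by
    rw [Spec.map_preimage, IsOpenImmersion.lift_fac]
  let c := Spec.preimage (o z ≫ q')
  have hc : CommRingCat.ofHom Algebra.TensorProduct.includeLeftRingHom ≫ ψ = φ ≫ c := by
    refine Spec.map_injective ?_
    rw [← cancel_mono U.2.fromSpec, Spec.map_comp, Spec.map_comp, Category.assoc, ← hjfst,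
      reassoc_of% hψ, hq, Spec.map_preimage, Category.assoc, Category.assoc]
  rw [← hψ, hJ]
  intro t ht
  have h0 := (hI (V z) C f).mpr (hle (V z)) t ht
  letI : Algebra Γ(S, W) (D z) := (c.hom.comp (algebraMap Γ(S, W) C)).toAlgebra
  let cA : C →ₐ[Γ(S, W)] D z := { c.hom with commutes' := fun _ => rfl }
  have hcomm : ∀ a, ψ.hom (a ⊗ₜ[Γ(S, W)] (1 : Γ(Y, (V z).1))) = c.hom (φ.hom a) :=
    fun a => congr(($hc).hom a)
  let bA : Γ(Y, (V z).1) →ₐ[Γ(S, W)] D z :=
    { ψ.hom.comp Algebra.TensorProduct.includeRight.toRingHom with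
      commutes' := fun r => by
        show ψ.hom (1 ⊗ₜ algebraMap Γ(S, W) Γ(Y, (V z).1) r) = _
        rw [← Algebra.TensorProduct.includeRight_apply, AlgHom.commutes]
        exact hcomm _ }
  have hfac : ∀ w, ψ.hom w = Algebra.TensorProduct.lift cA bA (fun _ _ => .all _ _)
      (Algebra.TensorProduct.map f (AlgHom.id Γ(S, W) Γ(Y, (V z).1)) w) := by
    intro w
    induction w using TensorProduct.induction_on with
    | zero => simp
    | add x y hx hy => simp [map_add, hx, hy]
    | tmul x y =>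
      rw [Algebra.TensorProduct.map_tmul, Algebra.TensorProduct.lift_tmul]
      show ψ.hom (x ⊗ₜ y) = c.hom (φ.hom x) * ψ.hom (1 ⊗ₜ y)
      rw [← hcomm, ← map_mul, Algebra.TensorProduct.tmul_mul_tmul, mul_one, one_mul]
  rw [RingHom.mem_ker, hfac, h0, map_zero]


/-- Over an affine base with a finite free cover of `Y` the representing subscheme is finitely presented. -/
theorem lfp_of_rep [IsAffine S] [IsClosedImmersion e] [LocallyOfFinitePresentation e]
    (Vs : Finset Y.affineOpens)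
    (hW : ∀ y : Y, ∃ (V : Y.affineOpens) (h : V.1 ≤ pY ⁻¹ᵁ ⊤), y ∈ V.1 ∧ V ∈ Vs ∧
      @Module.Free Γ(S, ⊤) Γ(Y, V) _ _ (pY.appLE ⊤ V.1 h).hom.toAlgebra.toModule)
    {Z : Scheme.{u}} (i : Z ⟶ X) [IsClosedImmersion i]
    (hZ : ∀ (T : Scheme.{u}) (x : T ⟶ X), Cond pX pY e x ↔ ∃ z : T ⟶ Z, z ≫ i = x) :
    LocallyOfFinitePresentation i := by
  let 𝒰 : X.OpenCover :=
    { I₀ := X.affineOpens, X := fun U => Spec Γ(X, U.1), f := fun U => U.2.fromSpec,
      mem₀ := (Scheme.presieve₀_mem_precoverage_iff _).mpr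
        ⟨fun x => by
          obtain ⟨_, ⟨V, hV, rfl⟩, hx, -⟩ := X.isBasis_affineOpens.exists_subset_of_mem_open
            (Set.mem_univ x) isOpen_univ
          exact ⟨⟨V, hV⟩, hV.range_fromSpec.symm.subset hx⟩,
         fun U => IsAffineOpen.isOpenImmersion_fromSpec _⟩ }
  refine IsZariskiLocalAtTarget.of_openCover (P := @LocallyOfFinitePresentation) 𝒰 fun (U : X.affineOpens) => ?_
  obtain ⟨I, hI, hrep⟩ := isRep_fg pX pY e U ⟨⊤, isAffineOpen_top S⟩ (fun _ _ => trivial) Vs
    (fun y _ => hW y)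
  obtain ⟨J, iso, hiso⟩ := IsClosedImmersion.Spec_iff.mp
    (inferInstance : IsClosedImmersion (pullback.fst U.2.fromSpec i))
  have hJ : J = I := ClosedRep.eq_of_forall_ker fun C φ => by
    rw [← hrep C φ, hZ]
    constructor
    · intro h
      let g : CommRingCat.of (Γ(X, U) ⧸ J) ⟶ C :=
        CommRingCat.ofHom (Ideal.Quotient.lift J φ.hom fun a ha => h ha)
      have hg : CommRingCat.ofHom (Ideal.Quotient.mk J) ≫ g = φ := rfl
      refine ⟨Spec.map g ≫ iso.inv ≫ pullback.snd _ _, ?_⟩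
      rw [Category.assoc, Category.assoc, ← pullback.condition, hiso, Category.assoc,
        Iso.inv_hom_id_assoc, ← Category.assoc, ← Spec.map_comp, hg]
    · rintro ⟨l, hl⟩
      let m := pullback.lift (Spec.map φ) l hl.symm ≫ iso.hom
      have hm : m ≫ Spec.map (CommRingCat.ofHom (Ideal.Quotient.mk J)) = Spec.map φ := by
        rw [Category.assoc, ← hiso, pullback.lift_fst]
      rw [← Spec.map_preimage m, ← Spec.map_comp] at hm
      intro a ha
      have := congr(($(Spec.map_injective hm)).hom a)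
      rw [RingHom.mem_ker, ← this, CommRingCat.hom_comp, RingHom.comp_apply]
      show (Spec.preimage m).hom (Ideal.Quotient.mk J a) = 0
      rw [Ideal.Quotient.eq_zero_iff_mem.mpr ha, map_zero]
  subst hJ
  have hq : LocallyOfFinitePresentation (Spec.map (CommRingCat.ofHom (Ideal.Quotient.mk J))) := by
    refine (HasRingHomProperty.Spec_iff (P := @LocallyOfFinitePresentation)).mpr ?_
    exact RingHom.finitePresentation_algebraMap.mpr (Algebra.FinitePresentation.quotient hI)
  have hp : LocallyOfFinitePresentation (pullback.fst U.2.fromSpec i) := by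
    rw [hiso]; infer_instance
  show LocallyOfFinitePresentation (pullback.snd i U.2.fromSpec)
  rw [← pullbackSymmetry_hom_comp_fst i U.2.fromSpec]
  infer_instance

end Groth.Agent.TransGen27
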